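/-
Many classes of p-elements force an abelian Sylow subgroup and a normal p-complement.
-/
import Mathlib

set_option linter.style.haveILetI false

namespace CfsgLib.ManyPiClasses

open Subgroup

/-- A fibre count: if all fibres missing `F` have at least `r` points, then a surjection has
few values. -/
theorem mul_card_le {X Y : Type*} [Finite X] (f : X → Y) (hf : Function.Surjective f)
    (F : Set X) {r : ℕ} (hr : 1 ≤ r)
    (h : ∀ x, x ∉ F → r ≤ Nat.card {x' : X // f x' = f x}) :
    r * Nat.card Y ≤ Nat.card X + (r - 1) * Nat.card F := by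
  classical
  haveI : Finite Y := Finite.of_surjective f hf
  haveI := Fintype.ofFinite X
  haveI := Fintype.ofFinite Y
  have h1 := Finset.card_eq_sum_card_fiberwise (f := f) (s := (Finset.univ : Finset X))
    (t := Finset.univ) fun _ _ => Finset.mem_univ _
  have h2 := Finset.card_eq_sum_card_fiberwise (f := f) (s := F.toFinset) (t := Finset.univ)
    fun _ _ => Finset.mem_univ _
  have key : (Finset.univ : Finset Y).card * r ≤ ∑ y : Y, ((Finset.univ.filter fun x => f x = y).card +
      (r - 1) * (F.toFinset.filter fun x => f x = y).card) := by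
    refine Finset.card_nsmul_le_sum _ _ r fun y _ => ?_
    obtain ⟨x, rfl⟩ := hf y
    have hpos : 0 < (Finset.univ.filter fun x' => f x' = f x).card :=
      Finset.card_pos.mpr ⟨x, by simp⟩
    rcases (F.toFinset.filter fun x' => f x' = f x).eq_empty_or_nonempty with he | he
    · have hx : x ∉ F := fun hx => Finset.notMem_empty x (he ▸ by simp [hx])
      have := h x hx
      rw [Nat.card_eq_fintype_card, Fintype.card_subtype] at this
      omega
    · have := Nat.mul_le_mul_left (r - 1) (Finset.card_pos.mpr he)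
      rw [Nat.succ_eq_add_one] at this
      omega
  rw [Finset.sum_add_distrib, ← Finset.mul_sum, ← h1, ← h2, Finset.card_univ, Finset.card_univ,
    Set.toFinset_card, mul_comm] at key
  simpa only [Nat.card_eq_fintype_card] using key

variable {G : Type*} [Group G] [Finite G] {p : ℕ} [hp : Fact p.Prime]

/-- The conjugacy classes of `p`-elements. -/
abbrev PClasses (p : ℕ) (G : Type*) [Group G] :=
  {c : ConjClasses G // ∀ x ∈ c.carrier, ∃ k : ℕ, orderOf x = p ^ k}

/-- The class in `G` of an element of the Sylow subgroup. -/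
def toClass (P : Sylow p G) (x : (P : Subgroup G)) : PClasses p G :=
  ⟨ConjClasses.mk x.1, fun y hy => by
    obtain ⟨c, rfl⟩ := isConj_iff.mp (ConjClasses.mem_carrier_iff_mk_eq.mp hy |>.symm |>
      ConjClasses.mk_eq_mk_iff_isConj.mp)
    obtain ⟨k, hk⟩ := IsPGroup.iff_orderOf.mp P.isPGroup' x
    exact ⟨k, by rw [← MulAut.conj_apply, ← MulEquiv.coe_toMonoidHom,
      orderOf_injective _ (MulAut.conj c).injective, orderOf_coe, hk]⟩⟩

theorem toClass_surjective (P : Sylow p G) : Function.Surjective (toClass P) := by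
  rintro ⟨c, hc⟩
  obtain ⟨x, rfl⟩ := ConjClasses.exists_rep c
  obtain ⟨k, hk⟩ := hc x (ConjClasses.mem_carrier_iff_mk_eq.mpr rfl)
  have hz : IsPGroup p (zpowers x) := IsPGroup.of_card (n := k) (by rw [Nat.card_zpowers, hk])
  obtain ⟨Q, hQ⟩ := hz.exists_le_sylow
  obtain ⟨g, rfl⟩ := MulAction.exists_smul_eq G P Q
  have hx := hQ (mem_zpowers x)
  rw [Sylow.smul_def, Sylow.pointwise_smul_def] at hx
  rw [Subgroup.mem_pointwise_smul_iff_inv_smul_mem] at hx
  refine ⟨⟨_, hx⟩, Subtype.ext ?_⟩
  change ConjClasses.mk _ = ConjClasses.mk x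
  rw [ConjClasses.mk_eq_mk_iff_isConj, isConj_iff]
  exact ⟨g, by simp [mul_assoc]⟩

theorem card_pClasses_le (P : Sylow p G) :
    Nat.card (PClasses p G) ≤ Nat.card (ConjClasses (P : Subgroup G)) := by
  let g : ConjClasses (P : Subgroup G) → PClasses p G :=
    Quotient.lift (toClass P) (by
      intro a b hab
      refine Subtype.ext (ConjClasses.mk_eq_mk_iff_isConj.mpr ?_)
      exact (P : Subgroup G).subtype.map_isConj hab)
  refine Nat.card_le_card_of_surjective g fun c => ?_
  obtain ⟨x, rfl⟩ := toClass_surjective P c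
  exact ⟨ConjClasses.mk x, rfl⟩

/-- A nonabelian `p`-group has at most `(p + 1) |P| / (2 p)` classes. -/
theorem two_mul_classes_le {P : Type*} [Group P] [Finite P] (hP : IsPGroup p P)
    (hna : ¬ IsMulCommutative P) :
    2 * p * Nat.card (ConjClasses P) ≤ (p + 1) * Nat.card P := by
  classical
  have hcount := mul_card_le (X := P) ConjClasses.mk ConjClasses.mk_surjective
    (center P : Set P) hp.out.one_lt.le (fun x hx => by
      have he : Nat.card {x' : P // ConjClasses.mk x' = ConjClasses.mk x} =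
          Nat.card (ConjClasses.mk x).carrier :=
        Nat.card_congr (Equiv.subtypeEquivRight fun _ => ConjClasses.mem_carrier_iff_mk_eq.symm)
      rw [he, ← ConjAct.orbit_eq_carrier_conjClasses,
        Nat.card_congr (MulAction.orbitEquivQuotientStabilizer (ConjAct P) x), ← index_eq_card]
      have hP' : IsPGroup p (ConjAct P) := hP
      haveI : Finite (ConjAct P) := Finite.of_equiv P ConjAct.toConjAct.toEquiv
      obtain ⟨n, hn⟩ := hP'.index (MulAction.stabilizer (ConjAct P) x)
      rw [hn]
      refine Nat.le_self_pow (fun h0 => hx ?_) p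
      rw [h0, pow_zero, index_eq_one] at hn
      refine mem_center_iff.mpr fun g => ?_
      have hg : ConjAct.toConjAct g • x = x := hn.ge (mem_top _)
      rw [ConjAct.smul_def, ConjAct.ofConjAct_toConjAct, mul_inv_eq_iff_eq_mul] at hg
      exact hg)
  simp only [SetLike.coe_sort_coe] at hcount
  have hz : p ^ 2 * Nat.card (center P) ≤ Nat.card P := by
    have h := (center P).index_mul_card
    obtain ⟨n, hn⟩ := hP.index (center P)
    have hn2 : 2 ≤ n := by
      by_contra hlt
      apply hna
      haveI : IsCyclic (P ⧸ center P) := by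
        rcases (show n = 0 ∨ n = 1 by omega) with rfl | rfl
        · haveI : Subsingleton (P ⧸ center P) := (Nat.card_eq_one_iff_unique.mp (by
            rw [← index_eq_card, hn, pow_zero])).1
          exact isCyclic_of_subsingleton
        · exact isCyclic_of_prime_card (p := p) (by rw [← index_eq_card, hn, pow_one])
      exact MonoidHom.isMulCommutative_of_isCyclic_of_ker_le_center
        (QuotientGroup.mk' (center P)) (by rw [QuotientGroup.ker_mk'])
    rw [← h, hn]
    exact Nat.mul_le_mul_right _ (Nat.pow_le_pow_right hp.out.pos hn2)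
  generalize Nat.card (ConjClasses P) = k at *
  generalize Nat.card P = n at *
  generalize Nat.card (center P) = z at *
  have hp2 := hp.out.two_le
  have e1 : 2 * p * k * p ^ 2 ≤ 2 * n * p ^ 2 + 2 * (p - 1) * (p ^ 2 * z) := by
    nlinarith [Nat.mul_le_mul_right (2 * p ^ 2) hcount]
  have e2 : 2 * n * p ^ 2 + 2 * (p - 1) * (p ^ 2 * z) ≤ (p + 1) * n * p ^ 2 := by
    refine le_trans (Nat.add_le_add_left (Nat.mul_le_mul_left _ hz) _) ?_
    have h3 : 2 * p ^ 2 + 2 * (p - 1) ≤ (p + 1) * p ^ 2 := by
      have : 2 * (p - 1) ≤ (p - 1) * p ^ 2 :=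
        (mul_comm 2 (p - 1)).le.trans (Nat.mul_le_mul_left _ (by nlinarith))
      have h' : (p + 1) * p ^ 2 = (p - 1) * p ^ 2 + 2 * p ^ 2 := by
        rw [← Nat.add_mul]; congr 1; omega
      omega
    calc 2 * n * p ^ 2 + 2 * (p - 1) * n = (2 * p ^ 2 + 2 * (p - 1)) * n := by ring
      _ ≤ (p + 1) * p ^ 2 * n := Nat.mul_le_mul_right n h3
      _ = (p + 1) * n * p ^ 2 := by ring
  exact Nat.le_of_mul_le_mul_right (e1.trans e2) (by positivity)

/-- An element of the normalizer of an abelian Sylow subgroup not centralizing it halves the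
number of classes of `p`-elements. -/
theorem two_mul_classes_le_of_normalizer (P : Sylow p G) {n : G}
    (hn : n ∈ normalizer ((P : Subgroup G) : Set G))
    (hnc : n ∉ centralizer ((P : Subgroup G) : Set G)) :
    2 * p * Nat.card (PClasses p G) ≤ (p + 1) * Nat.card (P : Subgroup G) := by
  classical
  set F : Subgroup (P : Subgroup G) := (centralizer ({n} : Set G)).subgroupOf (P : Subgroup G) with hF
  have hcount := mul_card_le (toClass P) (toClass_surjective P) (F : Set (P : Subgroup G))
    one_le_two (fun x hx => by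
      haveI := Fintype.ofFinite {x' : (P : Subgroup G) // toClass P x' = toClass P x}
      rw [Nat.card_eq_fintype_card]
      refine Fintype.one_lt_card_iff.mpr ⟨⟨x, rfl⟩, ⟨⟨n * x.1 * n⁻¹,
        (mem_normalizer_iff.mp hn x.1).mp x.2⟩, Subtype.ext ?_⟩, fun h => hx ?_⟩
      · change ConjClasses.mk (n * x.1 * n⁻¹) = ConjClasses.mk x.1
        exact ConjClasses.mk_eq_mk_iff_isConj.mpr (isConj_iff.mpr ⟨n⁻¹, by group⟩)
      · have h' : x.1 = n * x.1 * n⁻¹ := congrArg (fun a => a.1.1) h
        rw [SetLike.mem_coe, hF, mem_subgroupOf, mem_centralizer_singleton_iff]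
        exact eq_mul_inv_iff_mul_eq.mp h')
  simp only [SetLike.coe_sort_coe] at hcount
  have hidx : p * Nat.card F ≤ Nat.card (P : Subgroup G) := by
    obtain ⟨k, hk⟩ := P.isPGroup'.index F
    rw [← F.index_mul_card, hk]
    refine Nat.mul_le_mul_right _ (Nat.le_self_pow (fun h0 => hnc ?_) p)
    rw [h0, pow_zero, index_eq_one] at hk
    refine mem_centralizer_iff.mpr fun x hx => ?_
    have := hk.ge (mem_top (⟨x, hx⟩ : (P : Subgroup G)))
    rw [hF, mem_subgroupOf, mem_centralizer_singleton_iff] at this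
    exact this
  generalize Nat.card (PClasses p G) = k at *
  generalize Nat.card F = f at *
  generalize Nat.card (P : Subgroup G) = m at *
  rw [show 2 - 1 = 1 from rfl, one_mul] at hcount
  nlinarith [Nat.mul_le_mul_left p hcount]

/-- Many classes of `p`-elements: the Sylow subgroup is abelian, centralized by its normalizer,
and complemented by a normal subgroup. -/
theorem of_many_classes (P : Sylow p G)
    (hk : (p + 1) * Nat.card (P : Subgroup G) < 2 * p * Nat.card (PClasses p G)) :
    IsMulCommutative (P : Subgroup G) ∧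
      ∃ N : Subgroup G, N.Normal ∧ N.IsComplement' (P : Subgroup G) := by
  have hab : IsMulCommutative (P : Subgroup G) := by
    by_contra hna
    have := Nat.mul_le_mul_left (2 * p) (card_pClasses_le P)
    have := two_mul_classes_le P.isPGroup' hna
    omega
  have hNC : normalizer ((P : Subgroup G) : Set G) ≤ centralizer ((P : Subgroup G) : Set G) := by
    intro n hn
    by_contra hnc
    exact absurd hk (two_mul_classes_le_of_normalizer P hn hnc).not_gt
  exact ⟨hab, _, MonoidHom.normal_ker _, MonoidHom.ker_transferSylow_isComplement' P hNC⟩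

/-- Conversely, an abelian Sylow subgroup with a normal complement meets each class once. -/
theorem card_le_classes (P : Sylow p G) [hPc : IsMulCommutative (P : Subgroup G)] {N : Subgroup G}
    (hN : N.Normal) (hcop : N ⊓ (P : Subgroup G) = ⊥) (hsup : N ⊔ (P : Subgroup G) = ⊤) :
    Nat.card (P : Subgroup G) ≤ Nat.card (PClasses p G) := by
  haveI := hN
  refine Nat.card_le_card_of_injective (toClass P) fun x y h => ?_
  obtain ⟨g, hg⟩ := isConj_iff.mp
    (ConjClasses.mk_eq_mk_iff_isConj.mp (congrArg Subtype.val h))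
  obtain ⟨a, ha, q, hq, rfl⟩ := mem_sup_of_normal_left.mp (hsup ▸ mem_top g : g ∈ N ⊔ (P : Subgroup G))
  have hqx : q * x.1 * q⁻¹ = x.1 := by
    rw [setLike_mul_comm hq x.2, mul_inv_cancel_right]
  have h1 : y.1 * x.1⁻¹ ∈ N ⊓ (P : Subgroup G) := by
    refine Subgroup.mem_inf.mpr ⟨?_, mul_mem y.2 (inv_mem x.2)⟩
    have : y.1 * x.1⁻¹ = a * (x.1 * a⁻¹ * x.1⁻¹) := by
      rw [← hg]
      have h' : (a * q) * x.1 * (a * q)⁻¹ = a * (q * x.1 * q⁻¹) * a⁻¹ := by group
      rw [h', hqx]; group
    rw [this]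
    exact mul_mem ha (hN.conj_mem _ (inv_mem ha) _)
  rw [hcop, Subgroup.mem_bot, mul_inv_eq_one] at h1
  exact Subtype.ext h1.symm

universe u

/-- The conjugacy classes of elements all of whose order's prime divisors lie in `s`. -/
abbrev PiClasses (s : Finset ℕ) (G : Type*) [Group G] :=
  {c : ConjClasses G // ∀ x ∈ c.carrier, ∀ r : ℕ, r.Prime → r ∣ orderOf x → r ∈ s}

/-- The `s`-part of the order of `G`. -/
noncomputable abbrev piPart (s : Finset ℕ) (G : Type*) : ℕ :=
  s.prod fun r => r ^ (Nat.card G).factorization r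

theorem card_pClasses_le_ppart (G : Type*) [Group G] [Finite G] {r : ℕ} [Fact r.Prime] :
    Nat.card (PClasses r G) ≤ r ^ (Nat.card G).factorization r := by
  obtain ⟨P⟩ : Nonempty (Sylow r G) := inferInstance
  rw [← P.card_eq_multiplicity]
  exact Nat.card_le_card_of_surjective _ (toClass_surjective P)

omit [Finite G] in
theorem exists_decomp {r : ℕ} (hr : r.Prime) (s : Finset ℕ) (x : G) (h0 : orderOf x ≠ 0)
    (hx : ∀ q : ℕ, q.Prime → q ∣ orderOf x → q ∈ insert r s) :
    ∃ u w : G, u * w = x ∧ Commute u w ∧ (∃ k, orderOf u = r ^ k) ∧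
      ∀ q : ℕ, q.Prime → q ∣ orderOf w → q ∈ s := by
  obtain ⟨v, b, hb, hord⟩ := Nat.exists_eq_pow_mul_and_not_dvd h0 r hr.ne_one
  obtain ⟨i, j, hij⟩ := Int.isCoprime_iff_nat_coprime.mpr
    (show Nat.Coprime (Int.natAbs ((r ^ v : ℕ) : ℤ)) (Int.natAbs (b : ℤ)) by
      simpa using (hr.coprime_iff_not_dvd.mpr hb).pow_left v)
  have hx1 : ∀ m : ℤ, x ^ (m * ((r ^ v * b : ℕ) : ℤ)) = 1 := fun m => by
    rw [mul_comm, zpow_mul, zpow_natCast, ← hord, pow_orderOf_eq_one, one_zpow]
  refine ⟨x ^ (j * (b : ℤ)), x ^ (i * ((r ^ v : ℕ) : ℤ)), ?_,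
    (Commute.refl x).zpow_zpow _ _, ?_, fun q hq hqw => ?_⟩
  · rw [← zpow_add, add_comm, hij, zpow_one]
  · obtain ⟨k, -, hk⟩ := (Nat.dvd_prime_pow hr).mp
      (orderOf_dvd_of_pow_eq_one (show (x ^ (j * (b : ℤ))) ^ (r ^ v) = 1 by
        rw [← zpow_natCast, ← zpow_mul]; convert hx1 j using 2; push_cast; ring))
    exact ⟨k, hk⟩
  · have hwb : q ∣ b := hqw.trans (orderOf_dvd_of_pow_eq_one (by
      rw [← zpow_natCast, ← zpow_mul]; convert hx1 i using 2; push_cast; ring))
    exact Finset.mem_of_mem_insert_of_ne (hx q hq (hord ▸ Dvd.dvd.mul_left hwb _))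
      fun h => hb (h ▸ hwb)

/-- Splitting a class by its `r`-part. -/
theorem card_piClasses_insert_le (G : Type u) [Group G] [Finite G] {r : ℕ} (hr : r.Prime)
    (s : Finset ℕ) (B : ℕ)
    (hB : ∀ H : Subgroup G, Nat.card (PiClasses s H) ≤ B) :
    Nat.card (PiClasses (insert r s) G) ≤ Nat.card (PClasses r G) * B := by
  classical
  let rep : ConjClasses G → G := fun c => Quotient.out c
  have hrep : ∀ c : ConjClasses G, ConjClasses.mk (rep c) = c := fun c => Quotient.out_eq c
  let f : (Σ c : PClasses r G, PiClasses s (centralizer ({rep c.1} : Set G))) → ConjClasses G :=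
    fun cd => ConjClasses.mk (rep cd.1.1 * (Quotient.out cd.2.1 : centralizer ({rep cd.1.1} : Set G)).1)
  have hsub : ∀ c : PiClasses (insert r s) G, c.1 ∈ Set.range f := by
    rintro ⟨c, hc⟩
    obtain ⟨x, rfl⟩ := ConjClasses.exists_rep c
    obtain ⟨u, w, rfl, huw, hu, hw⟩ := exists_decomp hr s x (orderOf_pos x).ne'
      (hc x (ConjClasses.mem_carrier_iff_mk_eq.mpr rfl))
    let cu : PClasses r G := ⟨ConjClasses.mk u, fun y hy => by
      obtain ⟨g, rfl⟩ := isConj_iff.mp (ConjClasses.mk_eq_mk_iff_isConj.mp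
        (ConjClasses.mem_carrier_iff_mk_eq.mp hy).symm)
      obtain ⟨k, hk⟩ := hu
      exact ⟨k, by rw [← MulAut.conj_apply, ← MulEquiv.coe_toMonoidHom,
        orderOf_injective _ (MulAut.conj g).injective, hk]⟩⟩
    obtain ⟨g, hg⟩ := isConj_iff.mp (ConjClasses.mk_eq_mk_iff_isConj.mp (hrep cu.1).symm)
    have hwC : g * w * g⁻¹ ∈ centralizer ({rep cu.1} : Set G) := by
      rw [mem_centralizer_singleton_iff, ← hg]
      calc g * w * g⁻¹ * (g * u * g⁻¹) = g * (w * u) * g⁻¹ := by group
        _ = g * (u * w) * g⁻¹ := by rw [huw.eq]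
        _ = g * u * g⁻¹ * (g * w * g⁻¹) := by group
    let w' : centralizer ({rep cu.1} : Set G) := ⟨g * w * g⁻¹, hwC⟩
    let cw : PiClasses s (centralizer ({rep cu.1} : Set G)) := ⟨ConjClasses.mk w', fun y hy q hq hqy => by
      obtain ⟨h, rfl⟩ := isConj_iff.mp (ConjClasses.mk_eq_mk_iff_isConj.mp
        (ConjClasses.mem_carrier_iff_mk_eq.mp hy).symm)
      refine hw q hq ?_
      rwa [← MulAut.conj_apply, ← MulEquiv.coe_toMonoidHom,
        orderOf_injective _ (MulAut.conj h).injective, ← orderOf_coe, show w'.1 = MulAut.conj g w from rfl,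
        ← MulEquiv.coe_toMonoidHom, orderOf_injective _ (MulAut.conj g).injective] at hqy⟩
    refine ⟨⟨cu, cw⟩, ?_⟩
    obtain ⟨h, hh⟩ := isConj_iff.mp (ConjClasses.mk_eq_mk_iff_isConj.mp
      (Quotient.out_eq cw.1 : ConjClasses.mk (Quotient.out cw.1) = ConjClasses.mk w').symm)
    change ConjClasses.mk (rep cu.1 * (Quotient.out cw.1 : centralizer ({rep cu.1} : Set G)).1) =
      ConjClasses.mk (u * w)
    rw [ConjClasses.mk_eq_mk_iff_isConj, isConj_comm, isConj_iff]
    refine ⟨h.1 * g, ?_⟩
    have hh' : h.1 * (g * w * g⁻¹) * h.1⁻¹ = (Quotient.out cw.1).1 := congrArg Subtype.val hh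
    have hcent : h.1 * rep cu.1 * h.1⁻¹ = rep cu.1 := by
      rw [mem_centralizer_singleton_iff.mp h.2, mul_inv_cancel_right]
    rw [← hh']
    calc h.1 * g * (u * w) * (h.1 * g)⁻¹
        = h.1 * (g * u * g⁻¹) * h.1⁻¹ * (h.1 * (g * w * g⁻¹) * h.1⁻¹) := by group
      _ = _ := by rw [hg, hcent]
  calc Nat.card (PiClasses (insert r s) G) ≤ Nat.card (Set.range f) :=
        Nat.card_le_card_of_injective (fun c => ⟨c.1, hsub c⟩)
          (fun a b h => Subtype.ext (congrArg (fun z : Set.range f => z.1) h))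
    _ ≤ Nat.card (Σ c : PClasses r G, PiClasses s (centralizer ({rep c.1} : Set G))) :=
        Nat.card_le_card_of_surjective _ Set.rangeFactorization_surjective
    _ ≤ _ := by
        haveI := Fintype.ofFinite (PClasses r G)
        rw [Nat.card_sigma, Nat.card_eq_fintype_card (α := PClasses r G)]
        exact (Finset.sum_le_card_nsmul _ _ B fun c _ => hB _).trans (by simp)

theorem card_piClasses_le : ∀ (s : Finset ℕ), (∀ r ∈ s, r.Prime) → ∀ (G : Type u) [Group G]
    [Finite G], Nat.card (PiClasses s G) ≤ piPart s G := by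
  intro s
  induction s using Finset.induction_on with
  | empty =>
    intro _ G _ _
    simp only [piPart, Finset.prod_empty]
    refine Finite.card_le_one_iff_subsingleton.mpr ⟨?_⟩
    have h1 : ∀ c : PiClasses ∅ G, c.1 = ConjClasses.mk 1 := by
      rintro ⟨c, hc⟩
      obtain ⟨x, rfl⟩ := ConjClasses.exists_rep c
      by_cases h : orderOf x = 1
      · exact congrArg ConjClasses.mk (orderOf_eq_one_iff.mp h)
      · obtain ⟨q, hq, hqd⟩ := Nat.exists_prime_and_dvd h
        exact absurd (hc x (ConjClasses.mem_carrier_iff_mk_eq.mpr rfl) q hq hqd) (by simp)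
    exact fun a b => Subtype.ext ((h1 a).trans (h1 b).symm)
  | insert r t hrt ih =>
    intro hs G _ _
    have hr := hs r (Finset.mem_insert_self r t)
    haveI := Fact.mk hr
    have ht : ∀ q ∈ t, q.Prime := fun q hq => hs q (Finset.mem_insert_of_mem hq)
    refine (card_piClasses_insert_le G hr t (piPart t G) fun H => ?_).trans ?_
    · refine (ih ht H).trans (Finset.prod_le_prod' fun q hq => Nat.pow_le_pow_right (ht q hq).pos ?_)
      exact (Nat.factorization_le_iff_dvd Nat.card_pos.ne' Nat.card_pos.ne').mpr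
        H.card_subgroup_dvd_card q
    · simp only [piPart, Finset.prod_insert hrt]
      exact Nat.mul_le_mul_right _ (card_pClasses_le_ppart G)

end CfsgLib.ManyPiClasses
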